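import Groth.Agent.ASt.DiagFppf
import Groth.Agent.ASt.OverMapRep
import Groth.Agent.ASt.LocQBase
import Groth.Agent.ASt.StQc
import Groth.Agent.ASt.Props
import Groth.Agent.ASp.AffMor
import Groth.Agent.ASp.MorCancel
import Groth.Agent.ASp.LargestOpen
import Groth.Agent.S10536
import Groth.Agent.S10541
import Groth.Prelude.Def_W4stkstmodspWNA
/-!
Well-nigh affine stacks are quasi-compact, quasi-DM and separated.
-/

set_option autoImplicit false
set_option backward.isDefEq.respectTransparency false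
set_option backward.isDefEq.respectTransparency.types false
set_option linter.unusedSectionVars false
set_option linter.style.haveILetI false

universe u

open CategoryTheory CategoryTheory.Limits AlgebraicGeometry Opposite

namespace Groth.Agent.WNALib

open _root_.AlgSp Groth.Agent.ASp Groth.Agent.ASt

variable {S : Scheme.{u}}

theorem isProperMor_of_isFiniteMor {X Y : Sp S} {f : X ⟶ Y} (hX : IsAlgSpace X) (hY : IsAlgSpace Y)
    (h : IsFiniteMor f) : IsProperMor f :=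
  isProperMor_of_repWith (repWith_mono (fun _ _ g (hg : IsFinite g) => (haveI := hg; inferInstance : IsProper g))
    ((isFiniteMor_iff hX hY).1 h))

theorem locP_lqf_of_isFiniteMor {X Y : Sp S} {f : X ⟶ Y} (hX : IsAlgSpace X) (hY : IsAlgSpace Y)
    (h : IsFiniteMor f) : LocP (@LocallyQuasiFinite ⊓ @LocallyOfFiniteType) f :=
  locP_of_repWith (repWith_mono (fun _ _ g (hg : IsFinite g) =>
    (haveI := hg; ⟨inferInstance, inferInstance⟩ :
      (@LocallyQuasiFinite ⊓ @LocallyOfFiniteType : MorphismProperty Scheme.{u}) g)) ((isFiniteMor_iff hX hY).1 h))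

/-- An affine scheme is separated over the base. -/
theorem repByAlgSpWith_separated_toSelf (W : Over S) [IsAffine W.left] :
    AlgSt.RepByAlgSpWith IsSeparatedMor (FibCat.toSelf (FibCat.overCat W)) := by
  let B : Over S := Over.mk (𝟙 S)
  let σ : W ⟶ B := Over.homMk W.hom (Category.comp_id _)
  haveI : IsSeparated W.hom := inferInstance
  have h : AlgSt.RepByAlgSpWith (RepWith @IsSeparated) (AlgSt.overMap σ) :=
    repByAlgSpWith_overMap fun {T V} k a b hb => repWith_yon_map (MorphismProperty.of_isPullback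
      (hb.map (Over.forget S)) (inferInstanceAs (IsSeparated W.hom)))
  have hE : FibCat.IsEquivOver (FibCat.toSelf (FibCat.overCat B)) :=
    isEquivOver_of_bijective _ fun T => ⟨fun a b _ => (bijective_overHom T).1 (Over.OverMorphism.ext (by
      simpa [B] using (Over.w (overHom a)).trans (Over.w (overHom b)).symm)), fun c => by
      obtain ⟨t, ht, rfl⟩ := cl_exists c
      exact ⟨cl (ov (Over.homMk T.hom (Category.comp_id _) : T ⟶ B)) rfl,
        cl_eq_iff.2 ⟨eqToHom ht.symm, eqToHom_map _ _⟩⟩⟩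
  rw [← comp_toSelf (AlgSt.overMap σ)]
  haveI : (IsSeparatedMor (S := S)).RespectsIso := inferInstance
  refine repByAlgSpWith_comp_equiv hE (repByAlgSpWith_mono (fun X Y f hX hY hf => ?_) h)
  exact (isSeparatedMor_iff hf.1).2 hf

variable {𝒳 : AlgSt.Cat S} [h𝒳 : FibCat.IsFibGrpd 𝒳.p]

theorem isLocalOnBase_fppf_isProperMor :
    IsLocalOnBase (IsFppfCover (S := S)) AlgSp.IsProperMor := by
  intro ι Y Yi g hY hYi hτ X f hX Xi p q hXi hsq
  exact Groth.Agent.S10536.result S Yi g hY hYi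
    (isFpqcCover_of_fppf hY hYi (fun i => (hτ.1 i).1) (fun i => (hτ.1 i).2) hτ.2) f hX Xi p q hXi hsq

/-- Cancellation of properness through a separated second morphism. -/
theorem repByAlgSpWith_proper_of_comp {𝒳 𝒴 𝒵 : AlgSt.Cat S} [FibCat.IsFibGrpd 𝒳.p] [FibCat.IsFibGrpd 𝒴.p]
    [FibCat.IsFibGrpd 𝒵.p] {f : 𝒳 ⥤ᵇ 𝒴} {g : 𝒴 ⥤ᵇ 𝒵}
    (hf : AlgSt.RepByAlgSp1 f) (hg : AlgSt.RepByAlgSpWith IsSeparatedMor g)
    (hfg : AlgSt.RepByAlgSpWith IsProperMor (BasedFunctor.comp f g)) : AlgSt.RepByAlgSpWith IsProperMor f := by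
  rw [repByAlgSpWith_iff] at hfg hg
  obtain ⟨hg1, hg2⟩ := hg
  obtain ⟨hfa, hfs⟩ := repByAlgSp1_iff.1 hf
  refine repByAlgSpWith_iff.2 ⟨hfa, fun U y => ?_⟩
  let z : FibCat.overCat U ⥤ᵇ 𝒵 := BasedFunctor.comp y g
  let yv := y.obj (ov (𝟙 U))
  let hyv : 𝒴.p.obj yv = U := y.w_obj (ov (𝟙 U))
  refine fibHas_congr (objFunIso y) ?_
  let ψ : z.obj (ov (𝟙 U)) ⟶ g.obj yv := 𝟙 _
  have hψ : 𝒵.p.map ψ = eqToHom (((z.w_obj (ov (𝟙 U))).trans (ov_base (𝟙 U))).trans
      (hyv.symm.trans (g.w_obj yv).symm)) := 𝒵.p.map_id _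
  have sq := isPullback_sectionF f g z (𝟙 U) yv hyv ψ hψ
  obtain ⟨hs₁, hA₁, hsep⟩ := hg2 U z
  obtain ⟨hs₂, hA₂, hP₂⟩ := hfg.2 U z
  obtain ⟨hs, hA⟩ := hfs U (objFun yv hyv)
  let F₁ : Sp S := ⟨fib z g, hs₁⟩
  let F₂ : Sp S := ⟨fib z (BasedFunctor.comp f g), hs₂⟩
  let q : F₂ ⟶ F₁ := ObjectProperty.homMk (clFun (compF f g z))
  have hq : IsProperMor q := by
    refine proper_of_comp_separated hA₂ hA₁ (IsAlgSpace.yon_obj U) q (ObjectProperty.homMk (fibπ z g)) hsep ?_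
    have : (ObjectProperty.homMk (fibπ z (BasedFunctor.comp f g)) : F₂ ⟶ (yon S).obj U) =
        q ≫ ObjectProperty.homMk (fibπ z g) := ObjectProperty.hom_ext _ (clFun_compF_π f g z).symm
    rwa [← this]
  exact ⟨hs, hA, proper_baseChange hA₂ hA₁ (IsAlgSpace.yon_obj U)
    (IsPullback.of_map_of_faithful (sheafToPresheaf (J S) (Type (u + 1))) sq :
      IsPullback (ObjectProperty.homMk (clFun (sectionF f g z (𝟙 U) yv hyv ψ hψ)) :
          (⟨fib (objFun yv hyv) f, hs⟩ : Sp S) ⟶ F₂) (ObjectProperty.homMk (fibπ (objFun yv hyv) f)) q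
        (ObjectProperty.homMk (uliftYonedaEquiv.{u + 1}.symm (fpEl (y := z) (f := g) (𝟙 U) yv hyv ψ hψ)) :
          (yon S).obj U ⟶ F₁)) hq⟩

/-- A proper fppf chart from an affine scheme makes the stack separated over the base. -/
theorem isSeparatedOver_of_proper_chart {W : Over S} [IsAffine W.left] {a : FibCat.overCat W ⥤ᵇ 𝒳}
    (hΔ : AlgSt.RepByAlgSp1 (FibCat.diag (FibCat.toSelf 𝒳)))
    (hfl : AlgSt.RepByAlgSpWith (LocP @Flat) a)
    (hfp : AlgSt.RepByAlgSpWith (LocP @LocallyOfFinitePresentation) a) (hsu : AlgSt.IsSurjective a)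
    (ha : AlgSt.RepByAlgSpWith IsProperMor a) : AlgSt.IsSeparatedOver 𝒳 := by
  haveI : FibCat.IsFibGrpd (FibCat.fp (FibCat.toSelf 𝒳) (FibCat.toSelf 𝒳)).p := isFibGrpd_fp
  haveI : FibCat.IsFibGrpd (FibCat.fp (BasedFunctor.comp a (FibCat.toSelf 𝒳))
    (BasedFunctor.comp a (FibCat.toSelf 𝒳))).p := isFibGrpd_fp
  haveI : FibCat.IsFibGrpd (FibCat.fp a a).p := isFibGrpd_fp
  have hs : AlgSt.RepByAlgSpWith IsSeparatedMor (BasedFunctor.comp a (FibCat.toSelf 𝒳)) := by
    rw [comp_toSelf]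
    exact repByAlgSpWith_separated_toSelf W
  exact repByAlgSpWith_diag_toSelf_of_chart isLocalOnBase_fppf_isProperMor hΔ hfl hfp hsu
    (repByAlgSpWith_proper_of_comp
      (repByAlgSp1_of_with (repByAlgSpWith_compJ a _ (repByAlgSp1_iff_top.1 hΔ)))
      (g := FibCat.fpFst (BasedFunctor.comp a (FibCat.toSelf 𝒳)) (BasedFunctor.comp a (FibCat.toSelf 𝒳)))
      (repByAlgSpWith_fpFst _ hs) (repByAlgSpWith_fpFst a ha))

theorem wellNighAffine_props (hX : AlgSt.IsAlgStack Scheme.fppfPrecoverage 𝒳) (hw : AlgSt.IsWellNighAffine 𝒳) :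
    AlgSt.IsQuasiCompact 𝒳 ∧ AlgSt.IsQuasiDMOver 𝒳 ∧ AlgSt.IsSeparatedOver 𝒳 := by
  obtain ⟨U, x, hU, h⟩ := hw
  haveI := hU
  have hsu : AlgSt.RepByAlgSpWith IsSurjectiveMor x := repByAlgSpWith_mono (fun _ _ _ _ _ h => h.1.1.1) h
  have hfl : AlgSt.RepByAlgSpWith (LocP @Flat) x := repByAlgSpWith_mono (fun _ _ _ _ _ h => h.1.1.2) h
  have hfp : AlgSt.RepByAlgSpWith (LocP @LocallyOfFinitePresentation) x :=
    repByAlgSpWith_mono (fun _ _ _ _ _ h => h.2) h
  refine ⟨?_, ?_, isSeparatedOver_of_proper_chart hX.diag hfl hfp (isSurjective_of_repByAlgSpWith hsu)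
    (repByAlgSpWith_mono (fun _ _ _ hA hB h => isProperMor_of_isFiniteMor hA hB h.1.2) h)⟩
  · haveI := compactSpace_of_surjective_chart hX (surjective_chart hsu)
    exact isQuasiCompact_of_compactSpace hX
  · haveI : ASp.IsEtLocal (@LocallyQuasiFinite ⊓ @LocallyOfFiniteType) := inferInstance
    exact repByAlgSpWith_diag_toSelf_of_fppf_chart (Q := @LocallyQuasiFinite ⊓ @LocallyOfFiniteType)
      (fun f g h => ⟨haveI := h.1; LocallyQuasiFinite.of_comp f g, haveI := h.2; locallyOfFiniteType_of_comp f g⟩)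
      (fun ι Y Yi g hY hYi hτ X a hX Xi p q hXi sq =>
        (Groth.Agent.S10541.result S).1 Yi g hY hYi (isFpqcCover_of_fppf hY hYi (fun i => (hτ.1 i).1)
          (fun i => (hτ.1 i).2) hτ.2) a hX Xi p q hXi sq)
      hX.diag hfl hfp (isSurjective_of_repByAlgSpWith hsu)
      (repByAlgSpWith_mono (fun _ _ _ hA hB h => locP_lqf_of_isFiniteMor hA hB h.1.2) h)

end Groth.Agent.WNALib
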