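import Groth.Agent.WNALib.Basic
import Groth.Agent.ASt.SpChart
import Groth.Agent.ASt.Inv
import Groth.Agent.ASp.Residual
import Groth.Agent.ASp.Affine
import Groth.Agent.FinGrpdLib.EqvQuot
/-!
A well-nigh affine stack which is an algebraic space is an affine scheme.
-/

set_option autoImplicit false
set_option backward.isDefEq.respectTransparency false
set_option backward.isDefEq.respectTransparency.types false
set_option linter.unusedSectionVars false

universe u

open CategoryTheory CategoryTheory.Limits AlgebraicGeometry Opposite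

namespace Groth.Agent.WNALib

open _root_.AlgSp Groth.Agent.ASp Groth.Agent.ASt

variable {S : Scheme.{u}}

instance respectsIso_isFiniteMor : (IsFiniteMor : MorphismProperty (Sp S)).RespectsIso := by
  refine MorphismProperty.RespectsIso.mk _ (fun e f hf Z hZ g => ?_) (fun e f hf Z hZ g => ?_)
  · obtain ⟨W, i, fst, h1, h2⟩ := hf hZ g
    exact ⟨W, i, fst ≫ e.inv, IsPullback.of_iso h1 (Iso.refl _) e.symm (Iso.refl _) (Iso.refl _) (by simp) (by simp)
      (by simp) (by simp), h2⟩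
  · obtain ⟨W, i, fst, h1, h2⟩ := hf hZ (g ≫ e.inv)
    exact ⟨W, i, fst, IsPullback.of_iso h1 (Iso.refl _) (Iso.refl _) (Iso.refl _) e (by simp) (by simp) (by simp)
      (by simp), h2⟩

/-- A sheaf with a finite locally free surjective chart by an affine scheme is an affine scheme. -/
theorem exists_affine_iso_of_finLocFree_chart {F : Sp S} {U : Over S} [IsAffine U.left] (p : (yon S).obj U ⟶ F)
    (hfin : RepWith @IsFinite p) (hfl : RepWith @Flat p) (hfp : RepWith @LocallyOfFinitePresentation p)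
    (hs : RepWith @Surjective p) : ∃ M : Over S, IsAffine M.left ∧ Nonempty ((yon S).obj M ≅ F) := by
  haveI : Sheaf.IsLocallySurjective p := isLocallySurjective_of_repWith hfl hfp hs
  haveI : Epi p := inferInstance
  obtain ⟨R, t', s, hR⟩ : ∃ (R : Over S) (t' : (yon S).obj R ⟶ (yon S).obj U) (s : R ⟶ U),
      IsPullback t' ((yon S).map s) p p := ⟨_, _, _, hfin.1.isPullback p⟩
  obtain ⟨t, rfl⟩ := (yon S).map_surjective t'
  haveI hsf : IsFinite s.left := hfin.2 _ _ _ hR
  haveI : Flat s.left := hfl.2 _ _ _ hR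
  haveI : LocallyOfFinitePresentation s.left := hfp.2 _ _ _ hR
  have hE : IsEqvRel s t := by
    refine ⟨fun T r r' h1 h2 => (yon S).map_injective (hR.hom_ext ?_ ?_), fun T => ?_⟩
    · rw [← Functor.map_comp, ← Functor.map_comp, h1]
    · rw [← Functor.map_comp, ← Functor.map_comp, h2]
    have key : ∀ a b : T ⟶ U, (∃ r : T ⟶ R, r ≫ t = a ∧ r ≫ s = b) ↔
        (yon S).map a ≫ p = (yon S).map b ≫ p := fun a b => by
      constructor
      · rintro ⟨r, rfl, rfl⟩
        rw [Functor.map_comp, Functor.map_comp, Category.assoc, Category.assoc, hR.w]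
      · intro h
        obtain ⟨r, hr⟩ := (yon S).map_surjective (hR.lift _ _ h)
        refine ⟨r, (yon S).map_injective ?_, (yon S).map_injective ?_⟩
        · rw [Functor.map_comp, hr, hR.lift_fst]
        · rw [Functor.map_comp, hr, hR.lift_snd]
    exact ⟨fun a => (key a a).2 rfl, fun {a b} h => (key b a).2 ((key a b).1 h).symm,
      fun {a b c} h h' => (key a c).2 (((key a b).1 h).trans ((key b c).1 h'))⟩
  obtain ⟨e₀, i₀, c₀, ⟨het, hes⟩, ⟨hit, his⟩, hct, hcs⟩ := FinGrpdLib.exists_groupoid_data hE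
  let G := FinGrpdLib.groupoid hE e₀ i₀ c₀ het hes hit his hct hcs
  haveI : IsFinite G.s := hsf
  haveI : Flat G.s := ‹Flat s.left›
  haveI : LocallyOfFinitePresentation G.s := ‹LocallyOfFinitePresentation s.left›
  haveI : Mono G.j := FinGrpdLib.mono_j_of_isEqvRel G hE
  haveI : IsAffine G.U := ‹IsAffine U.left›
  obtain ⟨Y, m₀, hm⟩ := FinGrpdLib.exists_charted G
    (fun _ => ⟨⊤, isAffineOpen_top G.U, fun _ _ => trivial⟩)
  have hh : G.s ≫ G.pU = G.t ≫ G.pU := G.s_over.trans G.t_over.symm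
  let g : Y ⟶ S := hm.isQ.desc G.pU hh
  let m : U ⟶ Over.mk g := Over.homMk m₀ (hm.isQ.fac _ hh)
  obtain ⟨_, h₂, h₃⟩ := hm.isFinLocFree
  haveI : Flat m.left := h₂
  haveI : LocallyOfFinitePresentation m.left := h₃
  haveI : Surjective m.left := ⟨hm.isQ.surjective⟩
  haveI := epi_yon_map m
  have hP : IsPullback t s m m := IsPullback.of_map (Over.forget S)
    (Over.OverMorphism.ext hm.isQ.w.symm) hm.isPullback
  have hP' : IsPullback ((yon S).map t) ((yon S).map s) ((yon S).map m) ((yon S).map m) := hP.map (yon S)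
  obtain ⟨a, ha⟩ := exists_desc_of_epi p hR ((yon S).map m) hP'.w
  obtain ⟨b, hb⟩ := exists_desc_of_epi ((yon S).map m) hP' p hR.w
  refine ⟨Over.mk g, hm.isAffine, ⟨⟨b, a, ?_, ?_⟩⟩⟩
  · rw [← cancel_epi ((yon S).map m), reassoc_of% hb, ha, Category.comp_id]
  · rw [← cancel_epi p, reassoc_of% ha, hb, Category.comp_id]

/-- The properties of a finite chart read on a map of sheaves. -/
theorem repWith_of_repByAlgSpWith_spChart {F : Sp S} {U : Over S} {p : (yon S).obj U ⟶ F}
    (hF : IsAlgSpace F)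
    (h : AlgSt.RepByAlgSpWith (IsSurjectiveMor ⊓ LocP @Flat ⊓ IsFiniteMor ⊓ LocP @LocallyOfFinitePresentation)
      (spChart p)) : RepWith (@IsFinite ⊓ @Flat ⊓ @LocallyOfFinitePresentation ⊓ @Surjective) p := by
  refine ⟨Functor.relativelyRepresentable.of_diag hF.diag p, fun T W q fst snd sq => ?_⟩
  obtain ⟨hs, hA, hP⟩ := (repByAlgSpWith_iff.1 h).2 T (spChart q)
  let i := (sq.map (sheafToPresheaf (J S) (Type (u + 1)))).isoIsPullback _ _ (isPullback_spChart q p)
  obtain ⟨j⟩ := arrowIso_of_hom (a := (yon S).map snd)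
    (b := (ObjectProperty.homMk (fibπ (spChart q) (spChart p)) :
      (⟨fib (spChart q) (spChart p), hs⟩ : Sp S) ⟶ (yon S).obj T))
    i (IsPullback.isoIsPullback_hom_snd _ _ _ _).symm
  obtain ⟨⟨⟨h1, h2⟩, h3⟩, h4⟩ := hP
  have hT : IsAlgSpace ((yon S).obj T) := IsAlgSpace.yon_obj T
  have h2' : LocP @Flat ((yon S).map snd) := ((LocP @Flat).arrow_mk_iso_iff j).2 h2
  have h4' : LocP @LocallyOfFinitePresentation ((yon S).map snd) :=
    ((LocP @LocallyOfFinitePresentation).arrow_mk_iso_iff j).2 h4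
  have h3' : RepWith @IsFinite ((yon S).map snd) :=
    ((RepWith @IsFinite).arrow_mk_iso_iff j).2 ((isFiniteMor_iff hA hT).1 h3)
  have h1' : IsSurjectiveMor ((yon S).map snd) := (IsSurjectiveMor.arrow_mk_iso_iff j).2 h1
  refine ⟨⟨⟨(repWith_yon_map_iff _ snd).1 h3', ?_⟩, ?_⟩, surjective_left_of_map h1'⟩
  · exact (repWith_yon_map_iff _ snd).1 (repWith_of_locP hT (representable_yon_map snd) h2')
  · exact (repWith_yon_map_iff _ snd).1 (repWith_of_locP hT (representable_yon_map snd) h4')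

theorem exists_affine_equivOver_of_repByAlgSp (𝒳 : AlgSt.Cat S) (hw : AlgSt.IsWellNighAffine 𝒳)
    (hsp : AlgSt.RepByAlgSp 𝒳) :
    ∃ (U : Over S) (e : AlgSt.ofSch U ⥤ᵇ 𝒳), IsAffine U.left ∧ FibCat.IsEquivOver e := by
  haveI := isFibGrpd_of_repByAlgSp hsp
  obtain ⟨F, e, he⟩ := hsp
  obtain ⟨U, x, hU, hx⟩ := hw
  haveI := hU
  haveI := isAlgSpace_of_isFibGrpd_ofSp F.obj
  obtain ⟨G, hG, -, -⟩ := isEquivOver_symm he
  haveI : (IsSurjectiveMor ⊓ LocP @Flat ⊓ IsFiniteMor ⊓ LocP @LocallyOfFinitePresentation :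
    MorphismProperty (Sp S)).RespectsIso := inferInstance
  have hx' := repByAlgSpWith_comp_equiv hG hx
  obtain ⟨p, ⟨α⟩⟩ := exists_spChart (BasedFunctor.comp x G)
  have hp := repWith_of_repByAlgSpWith_spChart F.property (repByAlgSpWith_congr α hx')
  obtain ⟨M, hM, ⟨i⟩⟩ := exists_affine_iso_of_finLocFree_chart p
    (repWith_mono (fun _ _ _ h => h.1.1.1) hp) (repWith_mono (fun _ _ _ h => h.1.1.2) hp)
    (repWith_mono (fun _ _ _ h => h.1.2) hp) (repWith_mono (fun _ _ _ h => h.2) hp)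
  refine ⟨M, BasedFunctor.comp (AlgSt.ofSpMap i.hom) e, hM, isEquivOver_comp ?_ he⟩
  haveI := isAlgSpace_of_isFibGrpd_ofSp ((yon S).obj M)
  haveI : IsIso i.hom.hom := inferInstanceAs (IsIso ((sheafToPresheaf (J S) (Type (u + 1))).map i.hom))
  exact isEquivOver_ofPshMap i.hom.hom

end Groth.Agent.WNALib
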